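import Cfsg.Agent.FixBN.OfBN
import Cfsg.Agent.Tits.Chart
import Cfsg.Agent.Tits.Opp
import Cfsg.Agent.Characters.Core

/-!
# The Steinberg character of a finite group with a split (B,N)-pair of characteristic `p`

`St` : the functions on the chambers of the building with vanishing sum over every panel. The restriction to the
chambers opposite to a fixed chamber `c` is an isomorphism, so the Sylow `p`-subgroup `U c` acts by its regular
representation. The representation is irreducible.

* `exists_irr_of_sys` : building version;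
* `exists_irr_of_split`, `exists_irr_of_hasSplit` : groups with a split (B,N)-pair of characteristic `p`.
-/

set_option autoImplicit false
set_option linter.unusedSectionVars false

namespace Cfsg.Agent.H163.Steinberg

open Cfsg Cfsg.Agent.Tits.Core Cfsg.Agent.Tits.Core.Bldg Cfsg.Agent.FixBN Representation

section Rep

variable {G : Type*} [Group G] [Finite G] {V : Type*} [AddCommGroup V] [Module ℂ V]

/-- A criterion for irreducibility: the `H`-invariants are at most one-dimensional and every nonzero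
subrepresentation has nonzero `H`-invariants. -/
theorem irreducible_of_invariants [Nontrivial V] (ρ : Representation ℂ G V) (H : Subgroup G) (v0 : V)
    (h1 : ∀ v : V, (∀ h ∈ H, ρ h v = v) → ∃ c : ℂ, v = c • v0)
    (h2 : ∀ σ : Subrepresentation ρ, σ ≠ ⊥ → ∃ v ∈ σ, v ≠ 0 ∧ ∀ h ∈ H, ρ h v = v) :
    ρ.IsIrreducible := by
  have : NeZero (Nat.card G : ℂ) := ⟨Nat.cast_ne_zero.2 Nat.card_pos.ne'⟩
  have hss : IsSemisimpleRepresentation ρ := inferInstance
  have hv0 : ∀ σ : Subrepresentation ρ, σ ≠ ⊥ → v0 ∈ σ ∧ v0 ≠ 0 := by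
    intro σ hσ
    obtain ⟨v, hv, hv0, hinv⟩ := h2 σ hσ
    obtain ⟨c, rfl⟩ := h1 v hinv
    have hc : c ≠ 0 := fun h => hv0 (by rw [h, zero_smul])
    refine ⟨?_, fun h => hv0 (by rw [h, smul_zero])⟩
    have h3 := σ.toSubmodule.smul_mem c⁻¹ hv
    rwa [smul_smul, inv_mul_cancel₀ hc, one_smul] at h3
  have hbt : (⊥ : Subrepresentation ρ) ≠ ⊤ := by
    intro h
    obtain ⟨x, hx⟩ := exists_ne (0 : V)
    have h3 : x ∈ (⊤ : Subrepresentation ρ) := Submodule.mem_top
    rw [← h] at h3
    exact hx ((Submodule.mem_bot ℂ).1 h3)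
  have : Nontrivial (Subrepresentation ρ) := ⟨⊥, ⊤, hbt⟩
  refine { eq_bot_or_eq_top := fun σ => ?_ }
  by_cases hσ : σ = ⊥
  · exact Or.inl hσ
  · right
    obtain ⟨τ, hτ⟩ := hss.exists_isCompl σ
    by_cases hτ' : τ = ⊥
    · have := hτ.sup_eq_top
      rwa [hτ', sup_bot_eq] at this
    · exfalso
      obtain ⟨h3, h4⟩ := hv0 σ hσ
      obtain ⟨h5, -⟩ := hv0 τ hτ'
      have h6 : v0 ∈ σ ⊓ τ := ⟨h3, h5⟩
      rw [hτ.inf_eq_bot] at h6
      exact h4 ((Submodule.mem_bot ℂ).1 h6)

end Rep

section Building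

open scoped Classical

variable {I : Type*} {M : CoxeterMatrix I} {W : Type*} [Group W] {cs : CoxeterSystem M W} {C : Type*}
  [Fintype C] (Δ : Bldg cs C)

local prefix:100 "s" => cs.simple
local prefix:100 "ℓ" => cs.length

/-- The sum of `f` over the `i`-panel of `x`. -/
noncomputable def psum (i : I) (x : C) (f : C → ℂ) : ℂ := ∑ y, if y ∈ Δ.Pan i x then f y else 0

/-- The Steinberg space: functions with vanishing panel sums. -/
noncomputable def St : Submodule ℂ (C → ℂ) where
  carrier := {f | ∀ i x, psum Δ i x f = 0}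
  add_mem' := by
    intro f g hf hg i x
    have h1 := hf i x
    have h2 := hg i x
    unfold psum at h1 h2 ⊢
    have h3 : (∑ y, if y ∈ Δ.Pan i x then (f + g) y else 0) =
        (∑ y, if y ∈ Δ.Pan i x then f y else 0) + ∑ y, if y ∈ Δ.Pan i x then g y else 0 := by
      rw [← Finset.sum_add_distrib]
      refine Finset.sum_congr rfl fun y _ => ?_
      split_ifs
      · rfl
      · rw [add_zero]
    rw [h3, h1, h2, add_zero]
  zero_mem' := by
    intro i x
    unfold psum
    exact Finset.sum_eq_zero fun y _ => by split_ifs <;> rfl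
  smul_mem' := by
    intro c f hf i x
    have h1 := hf i x
    unfold psum at h1 ⊢
    have h3 : (∑ y, if y ∈ Δ.Pan i x then (c • f) y else 0) =
        c * (∑ y, if y ∈ Δ.Pan i x then f y else 0) := by
      rw [Finset.mul_sum]
      refine Finset.sum_congr rfl fun y _ => ?_
      split_ifs
      · rfl
      · rw [mul_zero]
    rw [h3, h1, mul_zero]

theorem mem_St {f : C → ℂ} : f ∈ St Δ ↔ ∀ i x, psum Δ i x f = 0 := Iff.rfl

variable [Finite W]

theorem exists_ascent {w : W} (hw : w ≠ w0 cs) : ∃ i, ℓ w < ℓ (w * s i) := by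
  by_contra hcon
  push Not at hcon
  have h1 : w0 cs * w ≠ 1 := by
    intro h
    apply hw
    have h2 : w = (w0 cs)⁻¹ := (eq_inv_of_mul_eq_one_right h)
    rw [h2]
    exact Tits.Exchange.w0_inv cs
  obtain ⟨i, hi⟩ := cs.exists_rightDescent_of_ne_one h1
  have h3 : ℓ (w0 cs * w * s i) < ℓ (w0 cs * w) := hi
  have h4 := Tits.Exchange.length_w0_mul cs w
  have h5 := Tits.Exchange.length_w0_mul cs (w * s i)
  rw [← mul_assoc] at h5
  have h6 := hcon i
  omega

/-- A function of the Steinberg space is determined by its values on the chambers opposite to `c`. -/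
theorem eq_zero_of_opp {f : C → ℂ} (hf : f ∈ St Δ) {c : C} (h : ∀ d, Δ.Opp c d → f d = 0) : f = 0 := by
  have key : ∀ (n : ℕ) (d : C), ℓ (w0 cs) ≤ ℓ (Δ.δ c d) + n → f d = 0 := by
    intro n
    induction n with
    | zero =>
      intro d hd
      exact h d (Tits.Exchange.eq_w0_of_length cs (by simpa using hd))
    | succ n ih =>
      intro d hd
      by_cases hw : Δ.δ c d = w0 cs
      · exact h d hw
      · obtain ⟨i, hi⟩ := exists_ascent hw
        have h1 := hf i d
        unfold psum at h1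
        rw [Finset.sum_eq_single d] at h1
        · rwa [if_pos (Δ.mem_Pan.2 (Or.inl rfl))] at h1
        · intro y _ hy
          by_cases hyP : y ∈ Δ.Pan i d
          · rw [if_pos hyP]
            rcases hyP with rfl | hyP
            · exact absurd rfl hy
            · apply ih
              rw [Δ.step_lt c d y i hyP hi]
              omega
          · rw [if_neg hyP]
        · intro hd
          exact absurd (Finset.mem_univ _) hd
  funext d
  exact key (ℓ (w0 cs)) d (by omega)

/-- The sign of an element of the Coxeter group. -/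
noncomputable def sg (w : W) : ℂ := (-1) ^ ℓ w

omit [Finite W] in
theorem sg_mul_simple (w : W) (i : I) : sg (cs := cs) (w * s i) = -sg (cs := cs) w := by
  unfold sg
  rcases cs.length_mul_simple w i with h | h
  · rw [h, pow_succ]
    ring
  · rw [← h, pow_succ]
    ring

omit [Finite W] in
theorem sg_ne_zero (w : W) : sg (cs := cs) w ≠ 0 := pow_ne_zero _ (by norm_num)

/-- The alternating sum over an apartment. -/
noncomputable def alt (σ : Tits.Chart.Chart Δ) (x : C) : ℂ :=
  if h : ∃ w, σ w = x then sg (cs := cs) h.choose else 0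

omit [Fintype C] [Finite W] in
variable {Δ} in
theorem alt_apply (σ : Tits.Chart.Chart Δ) (w : W) : alt Δ σ (σ w) = sg (cs := cs) w := by
  unfold alt
  have h : ∃ v, σ v = σ w := ⟨w, rfl⟩
  rw [dif_pos h, σ.inj h.choose_spec]

omit [Fintype C] [Finite W] in
variable {Δ} in
theorem alt_eq_zero (σ : Tits.Chart.Chart Δ) {x : C} (h : ∀ w, σ w ≠ x) : alt Δ σ x = 0 := by
  unfold alt
  rw [dif_neg]
  rintro ⟨w, hw⟩
  exact h w hw

omit [Finite W] in
variable {Δ} in
theorem alt_mem (σ : Tits.Chart.Chart Δ) : alt Δ σ ∈ St Δ := by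
  intro i x
  unfold psum
  by_cases hx : ∃ v, σ v ∈ Δ.Pan i x
  · obtain ⟨v, hv⟩ := hx
    have hne : σ v ≠ σ (v * s i) := by
      intro h
      have h1 := σ.inj h
      have h2 : s i = 1 := by
        have := congrArg (fun z => v⁻¹ * z) h1
        simpa using this.symm
      have h3 := cs.length_simple i
      rw [h2, cs.length_one] at h3
      exact absurd h3 (by norm_num)
    have hv' : σ (v * s i) ∈ Δ.Pan i x := Δ.mem_Pan_trans hv (σ.mem_Pan v i)
    rw [← Finset.sum_subset (Finset.subset_univ {σ v, σ (v * s i)})]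
    · rw [Finset.sum_pair hne, if_pos hv, if_pos hv', alt_apply, alt_apply, sg_mul_simple, add_neg_cancel]
    · intro y _ hy
      rw [Finset.mem_insert, Finset.mem_singleton, not_or] at hy
      by_cases hyP : y ∈ Δ.Pan i x
      · rw [if_pos hyP]
        apply alt_eq_zero
        rintro w rfl
        have h4 : σ w ∈ Δ.Pan i (σ v) := Δ.mem_Pan_trans (Δ.mem_Pan_symm hv) hyP
        rcases h4 with h4 | h4
        · exact hy.1 h4
        · rw [σ.iso, inv_mul_eq_iff_eq_mul] at h4
          rw [h4] at hy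
          exact hy.2 rfl
      · rw [if_neg hyP]
  · push Not at hx
    refine Finset.sum_eq_zero fun y _ => ?_
    by_cases hyP : y ∈ Δ.Pan i x
    · rw [if_pos hyP]
      apply alt_eq_zero
      rintro w rfl
      exact hx w hyP
    · rw [if_neg hyP]

/-- The restriction to the chambers opposite to `c`. -/
noncomputable def res (c : C) : St Δ →ₗ[ℂ] ({d // Δ.Opp c d} → ℂ) where
  toFun f d := (f : C → ℂ) d
  map_add' _ _ := rfl
  map_smul' _ _ := rfl

theorem res_injective (c : C) : Function.Injective (res Δ c) := by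
  rw [injective_iff_map_eq_zero]
  intro f hf
  apply Subtype.ext
  apply eq_zero_of_opp Δ f.2 (c := c)
  intro d hd
  exact congrFun hf ⟨d, hd⟩

theorem res_surjective (c : C) : Function.Surjective (res Δ c) := by
  rw [← LinearMap.range_eq_top, eq_top_iff]
  intro g _
  have hg : g = ∑ d, g d • (Pi.single d (1 : ℂ) : {d // Δ.Opp c d} → ℂ) := by
    funext x
    simp [Finset.sum_apply, Pi.single_apply]
  rw [hg]
  refine Submodule.sum_mem _ fun d _ => Submodule.smul_mem _ _ ?_
  obtain ⟨σ, h1, h2⟩ := Tits.Chart.exists_chart d.2 1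
  rw [one_mul] at h2
  refine ⟨(sg (cs := cs) (w0 cs))⁻¹ • ⟨alt Δ σ, alt_mem σ⟩, ?_⟩
  funext x
  change (sg (cs := cs) (w0 cs))⁻¹ * alt Δ σ x = _
  rw [Pi.single_apply]
  by_cases hx : x = d
  · subst hx
    rw [if_pos rfl, ← h2, alt_apply, inv_mul_cancel₀ (sg_ne_zero _)]
  · rw [if_neg hx]
    by_cases hw : ∃ w, σ w = (x : C)
    · obtain ⟨w, hw⟩ := hw
      exfalso
      apply hx
      apply Subtype.ext
      have h3 : Δ.Opp (σ 1) (σ w) := by
        rw [h1, hw]
        exact x.2
      rw [σ.opp_iff, one_mul] at h3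
      rw [← hw, h3, h2]
    · push Not at hw
      rw [alt_eq_zero σ hw, mul_zero]

/-- The restriction isomorphism. -/
noncomputable def resEquiv (c : C) : St Δ ≃ₗ[ℂ] ({d // Δ.Opp c d} → ℂ) :=
  LinearEquiv.ofBijective (res Δ c) ⟨res_injective Δ c, res_surjective Δ c⟩

variable {Δ} {G : Type*} [Group G] [MulAction G C]

omit [Finite W] in
theorem pan_smul (hiso : ∀ (g : G) (x y : C), Δ.δ (g • x) (g • y) = Δ.δ x y) (g : G) (i : I) (x y : C) :
    g • y ∈ Δ.Pan i (g • x) ↔ y ∈ Δ.Pan i x := by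
  rw [Δ.mem_Pan, Δ.mem_Pan, hiso, smul_left_cancel_iff]

/-- The Steinberg representation. -/
noncomputable def rep (hiso : ∀ (g : G) (x y : C), Δ.δ (g • x) (g • y) = Δ.δ x y) :
    Representation ℂ G (St Δ) where
  toFun g :=
    { toFun := fun f => ⟨fun x => (f : C → ℂ) (g⁻¹ • x), by
        intro i x
        have h1 := f.2 i (g⁻¹ • x)
        unfold psum at h1 ⊢
        refine Eq.trans ?_ h1
        refine (Fintype.sum_equiv (MulAction.toPerm g) _ _ fun y => ?_).symm
        change (if y ∈ Δ.Pan i (g⁻¹ • x) then (f : C → ℂ) y else 0) =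
          if g • y ∈ Δ.Pan i x then (f : C → ℂ) (g⁻¹ • g • y) else 0
        have h2 : g • y ∈ Δ.Pan i x ↔ y ∈ Δ.Pan i (g⁻¹ • x) := by
          conv_lhs => rw [← smul_inv_smul g x]
          exact pan_smul hiso g i _ _
        rw [inv_smul_smul]
        simp only [h2]⟩
      map_add' := fun _ _ => rfl
      map_smul' := fun _ _ => rfl }
  map_one' := by
    refine LinearMap.ext fun f => Subtype.ext ?_
    funext x
    change (f : C → ℂ) ((1 : G)⁻¹ • x) = (f : C → ℂ) x
    rw [inv_one, one_smul]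
  map_mul' g h := by
    refine LinearMap.ext fun f => Subtype.ext ?_
    funext x
    change (f : C → ℂ) ((g * h)⁻¹ • x) = (f : C → ℂ) (h⁻¹ • g⁻¹ • x)
    rw [mul_inv_rev, mul_smul]

omit [Finite W] in
theorem rep_apply (hiso : ∀ (g : G) (x y : C), Δ.δ (g • x) (g • y) = Δ.δ x y) (g : G) (f : St Δ) (x : C) :
    (rep hiso g f : C → ℂ) x = (f : C → ℂ) (g⁻¹ • x) := rfl

variable [Finite G] {p : ℕ} (S : FixBN.Sys Δ G p)

include S

theorem exists_inv_ne_zero {f : St Δ} (hf : f ≠ 0) (ht : ∀ x y : C, ∃ g : G, g • x = y) (c : C)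
    {σ : Subrepresentation (rep (G := G) S.iso)} (hfσ : f ∈ σ) :
    ∃ v ∈ σ, v ≠ 0 ∧ ∀ u ∈ S.U c, rep (G := G) S.iso u v = v := by
  have : Fintype (S.U c) := Fintype.ofFinite _
  obtain ⟨d, hd⟩ : ∃ d, (f : C → ℂ) d ≠ 0 := by
    by_contra hcon
    push Not at hcon
    exact hf (Subtype.ext (funext hcon))
  obtain ⟨g, hg⟩ := ht d c
  set f' := rep (G := G) S.iso g f with hf'
  have hf'σ : f' ∈ σ := σ.apply_mem_toSubmodule g hfσ
  refine ⟨∑ u : S.U c, rep (G := G) S.iso (u : G) f', ?_, ?_, ?_⟩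
  · exact Submodule.sum_mem _ fun u _ => σ.apply_mem_toSubmodule (u : G) hf'σ
  · intro h0
    have h1 : ((∑ u : S.U c, rep (G := G) S.iso (u : G) f' : St Δ) : C → ℂ) c = 0 := by rw [h0]; rfl
    rw [Submodule.coe_sum, Finset.sum_apply] at h1
    have h2 : ∀ u : S.U c, ((rep (G := G) S.iso (u : G) f' : St Δ) : C → ℂ) c = (f : C → ℂ) d := by
      intro u
      rw [rep_apply, S.fix c _ (inv_mem u.2), hf', rep_apply, ← hg, inv_smul_smul]
    rw [Finset.sum_congr rfl fun u _ => h2 u, Finset.sum_const, nsmul_eq_mul] at h1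
    rcases mul_eq_zero.1 h1 with h3 | h3
    · rw [Nat.cast_eq_zero, Finset.card_eq_zero] at h3
      exact absurd (Finset.mem_univ (1 : S.U c)) (by rw [h3]; exact Finset.notMem_empty _)
    · exact hd h3
  · intro u hu
    rw [map_sum]
    refine Fintype.sum_equiv (Equiv.mulLeft (⟨u, hu⟩ : S.U c)) _ _ fun v => ?_
    change _ = rep (G := G) S.iso (u * v) f'
    rw [map_mul]
    rfl

theorem inv_eq_smul {c : C} {f v : St Δ} {d : C} (hd : Δ.Opp c d)
    (hf : ∀ u ∈ S.U c, rep (G := G) S.iso u f = f) (hv : ∀ u ∈ S.U c, rep (G := G) S.iso u v = v)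
    (hfd : (f : C → ℂ) d ≠ 0) : ∃ a : ℂ, v = a • f := by
  refine ⟨(v : C → ℂ) d / (f : C → ℂ) d, ?_⟩
  rw [← sub_eq_zero]
  have key : ((v - ((v : C → ℂ) d / (f : C → ℂ) d) • f : St Δ) : C → ℂ) = 0 := by
    apply eq_zero_of_opp Δ (v - ((v : C → ℂ) d / (f : C → ℂ) d) • f : St Δ).2 (c := c)
    intro e he
    obtain ⟨u, hu, rfl⟩ := S.trans c d e hd he
    have h1 : ∀ w : St Δ, (∀ u ∈ S.U c, rep (G := G) S.iso u w = w) → (w : C → ℂ) (u • d) = (w : C → ℂ) d := by
      intro w hw
      have h2 := congrArg (fun z : St Δ => (z : C → ℂ) d) (hw u⁻¹ (inv_mem hu))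
      simp only [rep_apply, inv_inv] at h2
      exact h2
    change (v : C → ℂ) (u • d) - ((v : C → ℂ) d / (f : C → ℂ) d) * (f : C → ℂ) (u • d) = 0
    rw [h1 v hv, h1 f hf, div_mul_cancel₀ _ hfd, sub_self]
  exact Subtype.ext key

omit [Finite G] in
theorem exists_opp_ne_zero {c : C} {f : St Δ} (hf : f ≠ 0) : ∃ d, Δ.Opp c d ∧ (f : C → ℂ) d ≠ 0 := by
  by_contra hcon
  push Not at hcon
  exact hf (Subtype.ext (eq_zero_of_opp Δ f.2 (c := c) fun d hd => hcon d hd))

theorem isIrreducible (ht : ∀ x y : C, ∃ g : G, g • x = y) (c : C) (hopp : ∃ d, Δ.Opp c d) :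
    (rep (G := G) S.iso).IsIrreducible := by
  obtain ⟨d, hd⟩ := hopp
  have hnt : Nontrivial (St Δ) := by
    obtain ⟨f, hf⟩ := res_surjective Δ c (fun _ => 1)
    refine ⟨f, 0, ?_⟩
    rintro rfl
    have := congrFun hf ⟨d, hd⟩
    exact zero_ne_one this
  have hne : (⊤ : Subrepresentation (rep (G := G) S.iso)) ≠ ⊥ := by
    intro h
    obtain ⟨x, hx⟩ := exists_ne (0 : St Δ)
    have h3 : x ∈ (⊤ : Subrepresentation (rep (G := G) S.iso)) := Submodule.mem_top
    rw [h] at h3
    exact hx ((Submodule.mem_bot ℂ).1 h3)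
  obtain ⟨x, hx⟩ := exists_ne (0 : St Δ)
  obtain ⟨v0, -, hv0, hinv0⟩ := exists_inv_ne_zero S hx ht c
    (σ := (⊤ : Subrepresentation (rep (G := G) S.iso))) Submodule.mem_top
  obtain ⟨e, he, hve⟩ := exists_opp_ne_zero (c := c) S hv0
  apply irreducible_of_invariants (rep (G := G) S.iso) (S.U c) v0
  · intro v hv
    exact inv_eq_smul S he hinv0 hv hve
  · intro σ hσ
    have h4 : ∃ f ∈ σ, f ≠ 0 := by
      by_contra hcon
      push Not at hcon
      apply hσ
      refine SetLike.ext fun z => ?_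
      constructor
      · intro hz
        rw [hcon z hz]
        exact Submodule.zero_mem _
      · intro hz
        rw [(Submodule.mem_bot ℂ).1 hz]
        exact Submodule.zero_mem _
    obtain ⟨f, hfσ, hf⟩ := h4
    exact exists_inv_ne_zero S hf ht c hfσ

/-- The value of the character on the Sylow subgroup `U c`. -/
theorem character_apply (c : C) (hopp : ∃ d, Δ.Opp c d) (u : G) (hu : u ∈ S.U c) :
    (rep (G := G) S.iso).character u = if u = 1 then (Nat.card (S.U c) : ℂ) else 0 := by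
  obtain ⟨d, hd⟩ := hopp
  have hstab : ∀ u ∈ S.U c, ∀ e, Δ.Opp c e → Δ.Opp c (u • e) := by
    intro u hu e he
    have h1 := S.iso u c e
    rw [S.fix c u hu] at h1
    exact h1.trans he
  -- conjugation of `rep u` by the restriction isomorphism
  let T : ({d // Δ.Opp c d} → ℂ) →ₗ[ℂ] ({d // Δ.Opp c d} → ℂ) :=
    { toFun := fun g e => g ⟨u⁻¹ • (e : C), hstab _ (inv_mem hu) _ e.2⟩
      map_add' := fun _ _ => rfl
      map_smul' := fun _ _ => rfl }
  have hT : T = (resEquiv Δ c).conj (rep (G := G) S.iso u) := by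
    refine LinearMap.ext fun g => ?_
    obtain ⟨f, rfl⟩ := (resEquiv Δ c).surjective g
    rw [LinearEquiv.conj_apply_apply, LinearEquiv.symm_apply_apply]
    rfl
  have htr : (rep (G := G) S.iso).character u = LinearMap.trace ℂ _ T := by
    rw [hT, LinearMap.trace_conj']
    rfl
  rw [htr, LinearMap.trace_eq_matrix_trace ℂ (Pi.basisFun ℂ {d // Δ.Opp c d}), Matrix.trace]
  have hentry : ∀ e : {d // Δ.Opp c d},
      (LinearMap.toMatrix (Pi.basisFun ℂ {d // Δ.Opp c d}) (Pi.basisFun ℂ {d // Δ.Opp c d}) T).diag e =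
        if u = 1 then 1 else 0 := by
    intro e
    rw [Matrix.diag_apply, LinearMap.toMatrix_apply, Pi.basisFun_apply, Pi.basisFun_repr]
    change (Pi.single e (1 : ℂ) : {d // Δ.Opp c d} → ℂ) ⟨u⁻¹ • (e : C), _⟩ = _
    rw [Pi.single_apply]
    by_cases hu1 : u = 1
    · rw [if_pos hu1, if_pos]
      apply Subtype.ext
      change u⁻¹ • (e : C) = e
      rw [hu1, inv_one, one_smul]
    · rw [if_neg hu1, if_neg]
      intro h
      have h1 : u⁻¹ • (e : C) = e := congrArg Subtype.val h
      have h2 := S.free c e e.2 _ (inv_mem hu) h1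
      exact hu1 (inv_eq_one.1 h2)
  rw [Finset.sum_congr rfl fun e _ => hentry e]
  by_cases hu1 : u = 1
  · rw [if_pos hu1, if_pos hu1, Finset.sum_const, nsmul_eq_mul, mul_one, Finset.card_univ]
    congr 1
    rw [← Nat.card_eq_fintype_card]
    -- `U c` is simply transitive on the opposite chambers
    refine Nat.card_congr (Equiv.ofBijective
      (fun v : S.U c => (⟨(v : G) • d, hstab v v.2 d hd⟩ : {d // Δ.Opp c d})) ⟨?_, ?_⟩).symm
    · intro v w hvw
      have h1 : (v : G) • d = (w : G) • d := congrArg Subtype.val hvw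
      have h2 : ((w : G)⁻¹ * v) • d = d := by rw [mul_smul, h1, inv_smul_smul]
      have h3 := S.free c d hd _ (mul_mem (inv_mem w.2) v.2) h2
      exact Subtype.ext (inv_mul_eq_one.1 h3).symm
    · rintro ⟨e, he⟩
      obtain ⟨v, hv, rfl⟩ := S.trans c d e hd he
      exact ⟨⟨v, hv⟩, rfl⟩
  · rw [if_neg hu1, if_neg hu1, Finset.sum_const_zero]

/-- **The Steinberg character**, building version. -/
theorem exists_irr_of_sys [Fact p.Prime] [Nonempty C] (ht : ∀ x y : C, ∃ g : G, g • x = y) :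
    ∃ χ : G → ℂ, IsIrrCharacter G χ ∧ ∀ Q : Sylow p G, χ 1 = Nat.card Q ∧ ∀ x : G, x ∈ Q → x ≠ 1 → χ x = 0 := by
  have hopp : ∀ c : C, ∃ d, Δ.Opp c d := fun c => Tits.Opp.exists_opp Δ c
  obtain ⟨c0⟩ := (inferInstance : Nonempty C)
  have hirr := isIrreducible S ht c0 (hopp c0)
  refine ⟨(rep (G := G) S.iso).character, Characters.Core.isIrrCharacter_of_rep _ hirr, fun Q => ?_⟩
  -- `Q` is the group `U c` of a chamber
  obtain ⟨c, hc⟩ := S.exists_fix Q Q.isPGroup'
  have hQ : (Q : Subgroup G) = S.U c :=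
    (Q.is_maximal' (S.isP c) (S.max c Q Q.isPGroup' hc)).symm
  constructor
  · rw [character_apply S c (hopp c) 1 (one_mem _), if_pos rfl, ← hQ]
  · intro x hx hx1
    have hx' : x ∈ S.U c := by rw [← hQ]; exact hx
    rw [character_apply S c (hopp c) x hx', if_neg hx1]

end Building

/-- **The Steinberg character** of a finite group with a split (B,N)-pair of characteristic `p`. -/
theorem exists_irr_of_split {K : Type*} [Group K] [Finite K] {P : Cfsg.BNPair K} {p : ℕ} [Fact p.Prime]
    {U : Subgroup K} (h : FixBN.Split P p U) :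
    ∃ χ : K → ℂ, IsIrrCharacter K χ ∧ ∀ Q : Sylow p K, χ 1 = Nat.card Q ∧ ∀ x : K, x ∈ Q → x ≠ 1 → χ x = 0 := by
  have hN : ((P.B ⊓ P.N).subgroupOf P.N).Normal := Tits.OfBN.normal_subgroupOf P
  obtain ⟨M, cs, hcs⟩ := S0320.result P
  have S := FixBN.OfBN.sys (Equiv.refl P.S) cs hcs h
  have : Fintype (K ⧸ P.B) := Fintype.ofFinite _
  exact exists_irr_of_sys S fun x y => MulAction.exists_smul_eq K x y

/-- **The Steinberg character** of a finite group with `HasSplit`. -/
theorem exists_irr_of_hasSplit {K : Type*} [Group K] [Finite K] {p : ℕ} [Fact p.Prime]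
    (h : FixBN.HasSplit p K) :
    ∃ χ : K → ℂ, IsIrrCharacter K χ ∧ ∀ Q : Sylow p K, χ 1 = Nat.card Q ∧ ∀ x : K, x ∈ Q → x ≠ 1 → χ x = 0 := by
  obtain ⟨P, U, -, hU⟩ := h
  exact exists_irr_of_split hU

end Cfsg.Agent.H163.Steinberg
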