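import Cfsg.Agent.H163.Steinberg
import Cfsg.Agent.FixBN.SplitRGD
import Cfsg.Agent.Nodes.OppDec
import Cfsg.Agent.Nodes.HasRGD

/-!
# The Steinberg character of a finite group with a root group datum

* `core_le_center` : the normal core of the Borel subgroup is central;
* `center_quot_eq_bot` : if `X / Z(X)` is generated by `p`-elements and `Z(X)` has no elements of order `p` then the
  centre of `X / Z(X)` is trivial;
* `exists_irr_of_hasRGD`, `exists_irr_quot` : the Steinberg character.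
-/

set_option autoImplicit false
set_option linter.unusedSectionVars false

namespace Cfsg.Agent.H163.SteinbergRGD

open CoxeterSystem Cfsg.Agent.ChevalleyStructure.CoxeterGeom Cfsg.Agent.Tits.Roots Cfsg.Agent.Tits.Core
  Cfsg.Agent.Nodes.Reps Cfsg.Agent.Nodes.BNOf Cfsg.Agent.Nodes.RGDChev

section Core

variable {I W Y : Type*} [Fintype I] [DecidableEq I] [Group W] [Group Y] {M : CoxeterMatrix I}
  {cs : CoxeterSystem M W} {A : I → I → ℤ} {h : IsCartan M A} {p : ℕ} {T : Subgroup Y} {n : I → Y}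
  {X : (I → ℤ) → Subgroup Y}

theorem core_le_T [Finite W] (R : RGD cs h p T n X) : (RGD.B cs h T X).normalCore ≤ T := by
  obtain ⟨k, hk⟩ := exists_rp cs R.nsys (w0 cs)
  refine le_trans ?_ (Nodes.OppDec.B_inf_BN R).le
  refine le_inf (Subgroup.normalCore_le _) ?_
  intro x hx
  have h1 : k * x * k⁻¹ ∈ RGD.B cs h T X :=
    Subgroup.normalCore_le _ (Subgroup.normalCore_normal _ |>.conj_mem x hx k)
  rw [← Nodes.OppDec.cj_BN R hk, conj_mem_cj] at h1
  exact h1

theorem core_le_center [Finite W] (R : RGD cs h p T n X) (hG : Nodes.RGDLib.G1 cs h X = ⊤) :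
    (RGD.B cs h T X).normalCore ≤ Subgroup.center Y := by
  intro k hk
  have hkT := core_le_T R hk
  have key : Nodes.RGDLib.G1 cs h X ≤ Subgroup.centralizer {k} := by
    refine RGD.Sup_le ?_
    intro x hx u hu
    rw [Subgroup.mem_centralizer_singleton_iff]
    have h1 : k * u * k⁻¹ ∈ X x := by
      rw [← R.tor x hx k hkT]
      exact conj_mem_cj.2 hu
    have h2 : k * u * k⁻¹ * u⁻¹ ∈ X x := mul_mem h1 (inv_mem hu)
    have h3 : k * u * k⁻¹ * u⁻¹ ∈ T := by
      have h4 : u * k⁻¹ * u⁻¹ ∈ (RGD.B cs h T X).normalCore :=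
        Subgroup.normalCore_normal _ |>.conj_mem _ (inv_mem hk) u
      have h5 : k * u * k⁻¹ * u⁻¹ = k * (u * k⁻¹ * u⁻¹) := by group
      rw [h5]
      exact mul_mem hkT (core_le_T R h4)
    have h6 : k * u * k⁻¹ * u⁻¹ = 1 := by
      have h7 : k * u * k⁻¹ * u⁻¹ ∈ X x ⊓ T := ⟨h2, h3⟩
      rwa [Nodes.OppDec.X_inf_T R hx, Subgroup.mem_bot] at h7
    have h8 : k * u = u * k := by
      have := congrArg (fun z => z * u * k) h6
      simpa [mul_assoc] using this
    exact h8.symm
  rw [hG] at key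
  rw [Subgroup.mem_center_iff]
  intro g
  exact Subgroup.mem_centralizer_singleton_iff.1 (key (Subgroup.mem_top g))

end Core

/-- If `X / Z(X)` is generated by `p`-elements and `Z(X)` has no elements of order `p` then the centre of `X / Z(X)` is
trivial. -/
theorem center_quot_eq_bot {X : Type*} [Group X] {p : ℕ}
    (hZ : ∀ z ∈ Subgroup.center X, ∀ k : ℕ, z ^ p ^ k = 1 → z = 1)
    (hgen : Subgroup.closure {y : X ⧸ Subgroup.center X | ∃ k : ℕ, y ^ p ^ k = 1} = ⊤) :
    Subgroup.center (X ⧸ Subgroup.center X) = ⊥ := by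
  rw [Subgroup.eq_bot_iff_forall]
  intro y hy
  induction y using QuotientGroup.induction_on with
  | _ g =>
  rw [QuotientGroup.eq_one_iff]
  have hmem : ∀ x : X, g * x * g⁻¹ * x⁻¹ ∈ Subgroup.center X := by
    intro x
    have h1 := Subgroup.mem_center_iff.1 hy (QuotientGroup.mk x)
    have h2 : (QuotientGroup.mk (g * x * g⁻¹ * x⁻¹) : X ⧸ Subgroup.center X) = 1 := by
      rw [QuotientGroup.mk_mul, QuotientGroup.mk_mul, QuotientGroup.mk_mul, QuotientGroup.mk_inv,
        QuotientGroup.mk_inv, ← h1]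
      group
    exact (QuotientGroup.eq_one_iff _).1 h2
  have key : ∀ x : X, (∃ k : ℕ, (QuotientGroup.mk x : X ⧸ Subgroup.center X) ^ p ^ k = 1) → g * x = x * g := by
    rintro x ⟨k, hk⟩
    have h1 : x ^ p ^ k ∈ Subgroup.center X := by
      rw [← QuotientGroup.mk_pow] at hk
      exact (QuotientGroup.eq_one_iff _).1 hk
    set c := g * x * g⁻¹ * x⁻¹ with hc
    have h2 : c * x = g * x * g⁻¹ := by rw [hc]; group
    have hcc : Commute c x := (Subgroup.mem_center_iff.1 (hmem x) x).symm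
    have h3 : (c * x) ^ p ^ k = x ^ p ^ k := by
      rw [h2, conj_pow]
      have h4 := Subgroup.mem_center_iff.1 h1 g
      rw [h4]; group
    rw [hcc.mul_pow] at h3
    have h5 : c ^ p ^ k = 1 := mul_eq_right.1 h3
    have h6 := hZ c (hmem x) k h5
    rw [h6, one_mul] at h2
    have := congrArg (fun z => z * g) h2
    simpa [mul_assoc] using this.symm
  have hle : (⊤ : Subgroup (X ⧸ Subgroup.center X)) ≤
      (Subgroup.centralizer {g}).map (QuotientGroup.mk' (Subgroup.center X)) := by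
    rw [← hgen, Subgroup.closure_le]
    intro y hy
    induction y using QuotientGroup.induction_on with
    | _ x =>
    refine ⟨x, ?_, rfl⟩
    exact Subgroup.mem_centralizer_singleton_iff.2 (key x hy).symm
  rw [Subgroup.mem_center_iff]
  intro x
  obtain ⟨c, hc, hcx⟩ := hle (Subgroup.mem_top (QuotientGroup.mk x : X ⧸ Subgroup.center X))
  have h1 : c⁻¹ * x ∈ Subgroup.center X := by
    have h2 : (QuotientGroup.mk c : X ⧸ Subgroup.center X) = QuotientGroup.mk x := hcx
    exact QuotientGroup.eq.1 h2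
  have h3 := Subgroup.mem_center_iff.1 h1 g
  have h4 := Subgroup.mem_centralizer_singleton_iff.1 hc
  have h5 : x = c * (c⁻¹ * x) := by group
  rw [h5, mul_assoc, ← h3, ← mul_assoc, h4, mul_assoc]

theorem closure_of_hasRGD {Y : Type*} [Group Y] {p : ℕ} (h : HasRGD p Y) :
    Subgroup.closure {y : Y | ∃ k : ℕ, y ^ p ^ k = 1} = ⊤ := by
  obtain ⟨l, M, A, h, T, n, X, hW, R, hX⟩ := h
  rw [eq_top_iff, ← hX]
  refine RGD.Sup_le ?_
  intro x hx u hu
  apply Subgroup.subset_closure
  obtain ⟨k, hk⟩ := R.pgrp' hx ⟨u, hu⟩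
  exact ⟨k, by simpa using congrArg Subtype.val hk⟩

/-- The trivial case. -/
theorem exists_irr_of_subsingleton {Y : Type*} [Group Y] [Finite Y] [Subsingleton Y] {p : ℕ} :
    ∃ χ : Y → ℂ, IsIrrCharacter Y χ ∧ ∀ Q : Sylow p Y, χ 1 = Nat.card Q ∧ ∀ x : Y, x ∈ Q → x ≠ 1 → χ x = 0 := by
  have hirr : (Representation.trivial ℂ Y ℂ).IsIrreducible := by
    apply Steinberg.irreducible_of_invariants (Representation.trivial ℂ Y ℂ) ⊤ 1
    · intro v _
      exact ⟨v, by rw [smul_eq_mul, mul_one]⟩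
    · intro σ hσ
      have h4 : ∃ f ∈ σ, f ≠ 0 := by
        by_contra hcon
        push Not at hcon
        apply hσ
        refine SetLike.ext fun z => ?_
        constructor
        · intro hz
          rw [hcon z hz]
          exact Submodule.zero_mem _
        · intro hz
          rw [(Submodule.mem_bot ℂ).1 hz]
          exact Submodule.zero_mem _
      obtain ⟨f, hf, hf0⟩ := h4
      exact ⟨f, hf, hf0, fun _ _ => rfl⟩
  refine ⟨_, Characters.Core.isIrrCharacter_of_rep _ hirr, fun Q => ⟨?_, fun x _ hx => absurd (Subsingleton.elim x 1) hx⟩⟩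
  have h1 : Nat.card Q = 1 := Nat.card_eq_one_iff_unique.2 ⟨inferInstance, inferInstance⟩
  rw [h1, Representation.char_one, Module.finrank_self]

/-- **The Steinberg character** of a finite centreless group with a root group datum. -/
theorem exists_irr_of_hasRGD {Y : Type*} [Group Y] [Finite Y] {p : ℕ} [Fact p.Prime] (h : HasRGD p Y)
    (hZ : Subgroup.center Y = ⊥) :
    ∃ χ : Y → ℂ, IsIrrCharacter Y χ ∧ ∀ Q : Sylow p Y, χ 1 = Nat.card Q ∧ ∀ x : Y, x ∈ Q → x ≠ 1 → χ x = 0 := by
  obtain ⟨l, M, A, h, T, n, X, hW, R, hX⟩ := h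
  have hcore : (RGD.B M.toCoxeterSystem h T X).normalCore = ⊥ := by
    rw [eq_bot_iff, ← hZ]
    exact core_le_center R hX
  have hgen : RGD.B M.toCoxeterSystem h T X ⊔ NN M.toCoxeterSystem R.nsys = ⊤ := by
    rw [eq_top_iff, ← hX]
    exact Nodes.RGDLib.rgd_G1_le R
  exact Steinberg.exists_irr_of_split (FixBN.SplitRGD.split_of_rgd Fact.out R hgen hcore)

/-- **The Steinberg character** of `X / Z(X)`. -/
theorem exists_irr_quot {X : Type*} [Group X] [Finite X] {p : ℕ} [Fact p.Prime]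
    (hZ : ∀ z ∈ Subgroup.center X, ∀ k : ℕ, z ^ p ^ k = 1 → z = 1) (h : HasRGD p (X ⧸ Subgroup.center X)) :
    ∃ χ : (X ⧸ Subgroup.center X) → ℂ, IsIrrCharacter (X ⧸ Subgroup.center X) χ ∧
      ∀ Q : Sylow p (X ⧸ Subgroup.center X), χ 1 = Nat.card Q ∧
        ∀ x : X ⧸ Subgroup.center X, x ∈ Q → x ≠ 1 → χ x = 0 :=
  exists_irr_of_hasRGD h (center_quot_eq_bot hZ (closure_of_hasRGD h))

end Cfsg.Agent.H163.SteinbergRGD
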