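import Mathlib

set_option autoImplicit false

namespace Cfsg.Agent.H163.AltFive

abbrev A5 := alternatingGroup (Fin 5)

def x1 : A5 := ⟨Equiv.swap 0 1 * Equiv.swap 2 3, by rw [Equiv.Perm.mem_alternatingGroup]; decide⟩
def y1 : A5 := ⟨Equiv.swap 0 2 * Equiv.swap 2 4, by rw [Equiv.Perm.mem_alternatingGroup]; decide⟩
def y2 : A5 := ⟨Equiv.swap 0 3 * Equiv.swap 3 4, by rw [Equiv.Perm.mem_alternatingGroup]; decide⟩

theorem y1_facts : x1 ^ 2 = 1 ∧ x1 ≠ 1 ∧ y1 ^ 3 = 1 ∧ y1 ≠ 1 ∧ (x1 * y1) ^ 5 = 1 ∧ x1 * y1 ≠ 1 := by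
  decide +kernel

theorem y2_facts : y2 ^ 3 = 1 ∧ y2 ≠ 1 ∧ (x1 * y2) ^ 5 = 1 ∧ x1 * y2 ≠ 1 := by
  decide +kernel

theorem conj_y2 : ∃ g : A5, g * (x1 * y2) * g⁻¹ = (x1 * y1) ^ 2 := by
  decide +kernel

theorem conj_inv : ∀ a : A5, a ^ 2 = 1 → a ≠ 1 → ∃ g : A5, g * a * g⁻¹ = x1 := by
  decide +kernel

theorem conj_pair : ∀ b : A5, b ^ 3 = 1 → b ≠ 1 → (x1 * b) ^ 5 = 1 → 
      ∃ g : A5, g * x1 * g⁻¹ = x1 ∧ (g * b * g⁻¹ = y1 ∨ g * b * g⁻¹ = y2) := by
  decide +kernel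


theorem card_A5 : Nat.card A5 = 60 := by
  rw [nat_card_alternatingGroup]
  simp
  decide

theorem closure_eq_top {a b : A5} (ha2 : a ^ 2 = 1) (ha : a ≠ 1) (hb3 : b ^ 3 = 1) (hb : b ≠ 1)
    (hab5 : (a * b) ^ 5 = 1) (hab : a * b ≠ 1) : Subgroup.closure {a, b} = ⊤ := by
  set H := Subgroup.closure {a, b} with hH
  have haH : a ∈ H := Subgroup.subset_closure (by simp)
  have hbH : b ∈ H := Subgroup.subset_closure (by simp)
  have o2 : orderOf a = 2 := orderOf_eq_prime ha2 ha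
  have o3 : orderOf b = 3 := orderOf_eq_prime hb3 hb
  have o5 : orderOf (a * b) = 5 := by
    have : Fact (Nat.Prime 5) := ⟨by norm_num⟩
    exact orderOf_eq_prime hab5 hab
  have d2 : 2 ∣ Nat.card H := by rw [← o2]; exact Subgroup.orderOf_dvd_natCard H haH
  have d3 : 3 ∣ Nat.card H := by rw [← o3]; exact Subgroup.orderOf_dvd_natCard H hbH
  have d5 : 5 ∣ Nat.card H := by
    have := Subgroup.orderOf_dvd_natCard H (H.mul_mem haH hbH)
    rwa [o5] at this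
  have hm := H.card_mul_index
  rw [card_A5] at hm
  have h30 : 30 ∣ Nat.card H := by omega
  obtain ⟨k, hk⟩ := h30
  rw [hk] at hm
  have hki : k * H.index = 2 := by
    have : 30 * (k * H.index) = 30 * 2 := by rw [← mul_assoc, hm]
    exact Nat.eq_of_mul_eq_mul_left (by norm_num) this
  have hi : H.index = 1 ∨ H.index = 2 := by
    have : H.index ∣ 2 := ⟨k, by rw [mul_comm]; exact hki.symm⟩
    exact (Nat.dvd_prime Nat.prime_two).1 this
  rcases hi with hi | hi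
  · exact Subgroup.index_eq_one.1 hi
  · exfalso
    have hn : H.Normal := Subgroup.normal_of_index_eq_two hi
    have hs : IsSimpleGroup A5 := alternatingGroup.isSimpleGroup (by simp)
    rcases hs.eq_bot_or_eq_top_of_normal H hn with h | h
    · rw [h] at haH
      exact ha (Subgroup.mem_bot.1 haH)
    · rw [h, Subgroup.index_top] at hi
      exact absurd hi (by norm_num)

end Cfsg.Agent.H163.AltFive
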