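import Mathlib

set_option autoImplicit false
open scoped Pointwise

namespace Cfsg.Agent.H163.TwoClasses

variable {G : Type*} [Group G]

theorem conj_smul_eq_iff {H : Subgroup G} {g : G} : MulAut.conj g • H = H ↔ g ∈ Subgroup.normalizer (H : Set G) := by
  constructor
  · intro h
    rw [Subgroup.mem_normalizer_iff]
    intro x
    constructor
    · intro hx
      rw [← h]
      exact ⟨x, hx, rfl⟩
    · intro hx
      rw [← h] at hx
      obtain ⟨y, hy, hy1⟩ := hx
      have : y = x := by
        have h2 : g * y * g⁻¹ = g * x * g⁻¹ := hy1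
        simpa using h2
      rwa [← this]
  · intro h
    ext x
    rw [Subgroup.mem_normalizer_iff] at h
    constructor
    · rintro ⟨y, hy, rfl⟩
      exact (h y).1 hy
    · intro hx
      refine ⟨g⁻¹ * x * g, ?_, ?_⟩
      · have h2 := (h (g⁻¹ * x * g)).2 (by
          have : g * (g⁻¹ * x * g) * g⁻¹ = x := by group
          rw [this]; exact hx)
        exact h2
      · show g * (g⁻¹ * x * g) * g⁻¹ = x
        group

/-- the orbit map from the cosets of `H` to the conjugates of `H` -/
def orb (H : Subgroup G) : G ⧸ H → Subgroup G :=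
  Quotient.lift (fun g => MulAut.conj g • H) (by
    intro a b hab
    have hab := QuotientGroup.leftRel_apply.1 hab
    show MulAut.conj a • H = MulAut.conj b • H
    rw [show b = a * (a⁻¹ * b) by group, map_mul, mul_smul]
    congr 1
    exact (conj_smul_eq_iff.2 (Subgroup.le_normalizer hab)).symm)

theorem orb_mk (H : Subgroup G) (g : G) : orb H (QuotientGroup.mk g) = MulAut.conj g • H := rfl

theorem orb_injective {H : Subgroup G} (hH : Subgroup.normalizer (H : Set G) = H) :
    Function.Injective (orb H) := by
  intro a b hab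
  obtain ⟨a, rfl⟩ := QuotientGroup.mk_surjective a
  obtain ⟨b, rfl⟩ := QuotientGroup.mk_surjective b
  rw [orb_mk, orb_mk] at hab
  rw [QuotientGroup.eq]
  rw [← hH]
  apply conj_smul_eq_iff.1
  rw [map_mul, mul_smul, ← hab, ← mul_smul, ← map_mul]
  simp

theorem card_two_classes [Finite G] (P : Subgroup G → Prop) {H K : Subgroup G}
    (hH : Subgroup.normalizer (H : Set G) = H) (hK : Subgroup.normalizer (K : Set G) = K)
    (hne : ∀ g : G, MulAut.conj g • H ≠ K)
    (hall : ∀ L, P L ↔ ∃ g : G, MulAut.conj g • L = H ∨ MulAut.conj g • L = K) :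
    Nat.card {L : Subgroup G // P L} = H.index + K.index := by
  have hinv : ∀ (g : G) (L M : Subgroup G), MulAut.conj g • L = M ↔ MulAut.conj g⁻¹ • M = L := by
    intro g L M
    constructor
    · rintro rfl
      rw [← mul_smul, ← map_mul]; simp
    · rintro rfl
      rw [← mul_smul, ← map_mul]; simp
  let f : (G ⧸ H) ⊕ (G ⧸ K) → {L : Subgroup G // P L} := fun x =>
    ⟨Sum.elim (orb H) (orb K) x, by
      rw [hall]
      rcases x with x | x
      · obtain ⟨a, rfl⟩ := QuotientGroup.mk_surjective x
        refine ⟨a⁻¹, Or.inl ?_⟩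
        rw [Sum.elim_inl, orb_mk, ← mul_smul, ← map_mul]; simp
      · obtain ⟨a, rfl⟩ := QuotientGroup.mk_surjective x
        refine ⟨a⁻¹, Or.inr ?_⟩
        rw [Sum.elim_inr, orb_mk, ← mul_smul, ← map_mul]; simp⟩
  have hf : Function.Bijective f := by
    constructor
    · rintro (a | a) (b | b) hab
      · have h1 : orb H a = orb H b := congrArg Subtype.val hab
        rw [orb_injective hH h1]
      · exfalso
        have h1 : orb H a = orb K b := congrArg Subtype.val hab
        obtain ⟨a, rfl⟩ := QuotientGroup.mk_surjective a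
        obtain ⟨b, rfl⟩ := QuotientGroup.mk_surjective b
        rw [orb_mk, orb_mk] at h1
        apply hne (b⁻¹ * a)
        rw [map_mul, mul_smul, h1, ← mul_smul, ← map_mul]
        simp
      · exfalso
        have h1 : orb K a = orb H b := congrArg Subtype.val hab
        obtain ⟨a, rfl⟩ := QuotientGroup.mk_surjective a
        obtain ⟨b, rfl⟩ := QuotientGroup.mk_surjective b
        rw [orb_mk, orb_mk] at h1
        apply hne (a⁻¹ * b)
        rw [map_mul, mul_smul, ← h1, ← mul_smul, ← map_mul]
        simp
      · have h1 : orb K a = orb K b := congrArg Subtype.val hab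
        rw [orb_injective hK h1]
    · rintro ⟨L, hL⟩
      obtain ⟨g, h | h⟩ := (hall L).1 hL
      · refine ⟨Sum.inl (QuotientGroup.mk g⁻¹), ?_⟩
        apply Subtype.ext
        show MulAut.conj g⁻¹ • H = L
        exact (hinv _ _ _).1 h
      · refine ⟨Sum.inr (QuotientGroup.mk g⁻¹), ?_⟩
        apply Subtype.ext
        show MulAut.conj g⁻¹ • K = L
        exact (hinv _ _ _).1 h
  rw [← Nat.card_eq_of_bijective f hf, Nat.card_sum]
  rfl

end Cfsg.Agent.H163.TwoClasses
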